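import Mathlib

set_option autoImplicit false

/-!
# Abstract model theorem: interface (hypothesis bundle)
-/

namespace Cfsg.Agent.LeadModel

universe u

variable {S : Type u} [Group S]

/-- conjugation action of `S` on the normal subgroup `Q`. -/
def cj (Q : Subgroup S) [Q.Normal] : S →* MulAut Q := MulAut.conjNormal

theorem cj_apply (Q : Subgroup S) [Q.Normal] (s : S) (x : Q) :
    ((cj Q s x : Q) : S) = s * x * s⁻¹ := by
  simp [cj]

/-- `N_γ`: the elements `s` of `S` with `γ c_s γ⁻¹ ∈ Aut_S(Q)`. -/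
noncomputable def Ngam (Q : Subgroup S) [Q.Normal] (γ : MulAut Q) : Subgroup S :=
  ((cj Q).range.map (MulAut.conj γ⁻¹).toMonoidHom).comap (cj Q)

theorem mem_Ngam (Q : Subgroup S) [Q.Normal] (γ : MulAut Q) (s : S) :
    s ∈ Ngam Q γ ↔ ∃ t : S, γ * cj Q s * γ⁻¹ = cj Q t := by
  unfold Ngam
  rw [Subgroup.mem_comap, Subgroup.mem_map]
  constructor
  · rintro ⟨_, ⟨t, rfl⟩, h⟩
    refine ⟨t, ?_⟩
    simp only [MulEquiv.coe_toMonoidHom, MulAut.conj_apply, inv_inv] at h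
    rw [← h]; group
  · rintro ⟨t, h⟩
    refine ⟨cj Q t, ⟨t, rfl⟩, ?_⟩
    simp only [MulEquiv.coe_toMonoidHom, MulAut.conj_apply, inv_inv]
    rw [← h]; group

/-- The hypotheses of the abstract model theorem: `Q ⊴ S` self-centralizing, `Γ ≤ Aut(Q)` containing `Aut_S(Q)` with index prime
to `p`, and a family `H A ⊆ Hom(A, S)` of admissible maps (closed under conjugation by `S`, restriction and composition) in which
extensions of a given automorphism of `Q` are unique up to `Z(Q)` and every `γ ∈ Γ` extends to `N_γ`. -/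
structure Hyp (p : ℕ) (Q : Subgroup S) [Q.Normal] (Γ : Subgroup (MulAut Q))
    (H : (A : Subgroup S) → Set (A →* S)) : Prop where
  cent : Subgroup.centralizer (Q : Set S) ≤ Q
  conj_le : (cj Q).range ≤ Γ
  cop : ∃ m : ℕ, ¬ p ∣ m ∧ Nat.card Γ = m * Nat.card (cj Q).range
  H_conj : ∀ (A : Subgroup S) (s : S), (MulAut.conj s).toMonoidHom.comp A.subtype ∈ H A
  H_restrict : ∀ {A B : Subgroup S} (h : B ≤ A) (ψ : A →* S), ψ ∈ H A → ψ.comp (Subgroup.inclusion h) ∈ H B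
  H_comp : ∀ {A B : Subgroup S} (ψ : A →* S) (χ : B →* S), ψ ∈ H A → χ ∈ H B → ∀ h : ∀ a : A, ψ a ∈ B,
    χ.comp (ψ.codRestrict B h) ∈ H A
  H_unique : ∀ (A : Subgroup S) (hQA : Q ≤ A) (ψ ψ' : A →* S), ψ ∈ H A → ψ' ∈ H A →
    (∀ x : Q, ψ ⟨x, hQA x.2⟩ = ψ' ⟨x, hQA x.2⟩) →
    ∃ z : Q, (∀ x : Q, z * x = x * z) ∧ ∀ a : A, ψ' a = ψ (⟨z, hQA z.2⟩ * a * ⟨z, hQA z.2⟩⁻¹)
  H_ext : ∀ γ ∈ Γ, ∃ φ : Ngam Q γ →* S, φ ∈ H (Ngam Q γ) ∧
    ∀ (x : Q) (hx : (x : S) ∈ Ngam Q γ), φ ⟨x, hx⟩ = γ x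

/-- The conclusion of the abstract model theorem. -/
def Concl (p : ℕ) (Q : Subgroup S) [Q.Normal] (Γ : Subgroup (MulAut Q))
    (H : (A : Subgroup S) → Set (A →* S)) : Prop :=
  ∃ (G : Type u) (_ : Group G) (_ : Finite G) (ι : S →* G), Function.Injective ι ∧
    ¬ p ∣ ι.range.index ∧ (Q.map ι).Normal ∧
    Subgroup.centralizer ((Q.map ι : Subgroup G) : Set G) ≤ Q.map ι ∧
    (∀ (g : G) (A : Subgroup S) (φ : A →* S), (∀ a : A, ι (φ a) = g * ι a * g⁻¹) → φ ∈ H A) ∧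
    (∀ (A : Subgroup S) (hQA : Q ≤ A) (ψ : A →* S), ψ ∈ H A →
      (∃ γ ∈ Γ, ∀ x : Q, ψ ⟨x, hQA x.2⟩ = γ x) → ∃ g : G, ∀ a : A, ι (ψ a) = g * ι a * g⁻¹)

end Cfsg.Agent.LeadModel
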