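import Mathlib
import Cfsg.Agent.Lib.Lead.Model.Iface

set_option autoImplicit false

/-!
# Typed bisets
-/

namespace Cfsg.Agent.LeadModel

universe u

variable {S : Type u} [Group S]

/-- A typed `(S,S)`-biset over `Γ ≤ Aut(Q)`: commuting left and right actions of `S`, a type map `θ` to `Γ` compatible with
them, the right action free, the right orbits exactly the fibres of `θ` modulo `Aut_S(Q)`, and `Q` acting on the left as it does on
the right through the type. -/
structure TBiset (Q : Subgroup S) [Q.Normal] (Γ : Subgroup (MulAut Q)) where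
  X : Type u
  fin : Finite X
  l : S → X → X
  r : X → S → X
  θ : X → MulAut Q
  l_one : ∀ b, l 1 b = b
  l_mul : ∀ s t b, l (s * t) b = l s (l t b)
  r_one : ∀ b, r b 1 = b
  r_mul : ∀ b s t, r b (s * t) = r (r b s) t
  lr : ∀ s b t, r (l s b) t = l s (r b t)
  θ_l : ∀ s b, θ (l s b) = cj Q s * θ b
  θ_r : ∀ b s, θ (r b s) = θ b * cj Q s
  free : ∀ b s, r b s = b → s = 1
  trans : ∀ b b' s, θ b' = θ b * cj Q s → ∃ t, b' = r b t
  qact : ∀ (x : Q) b, l (x : S) b = r b (((θ b)⁻¹ x : Q) : S)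
  θ_mem : ∀ b, θ b ∈ Γ
  θ_surj : ∀ γ ∈ Γ, ∃ b, θ b = γ

namespace TBiset

variable {Q : Subgroup S} [Q.Normal] {Γ : Subgroup (MulAut Q)} (B : TBiset Q Γ)

instance : Finite B.X := B.fin

theorem r_cancel {b : B.X} {s t : S} (h : B.r b s = B.r b t) : s = t := by
  have h1 : B.r b (s * t⁻¹) = b := by
    rw [B.r_mul, h, ← B.r_mul, mul_inv_cancel, B.r_one]
  have := B.free b _ h1
  exact mul_inv_eq_one.mp this

theorem r_inj (s : S) {b b' : B.X} (h : B.r b s = B.r b' s) : b = b' := by
  have := congrArg (fun x => B.r x s⁻¹) h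
  simpa [← B.r_mul, B.r_one] using this

theorem l_inj (s : S) {b b' : B.X} (h : B.l s b = B.l s b') : b = b' := by
  have := congrArg (fun x => B.l s⁻¹ x) h
  simpa [← B.l_mul, B.l_one] using this

theorem l_inv_l (s : S) (b : B.X) : B.l s⁻¹ (B.l s b) = b := by
  rw [← B.l_mul, inv_mul_cancel, B.l_one]

theorem l_l_inv (s : S) (b : B.X) : B.l s (B.l s⁻¹ b) = b := by
  rw [← B.l_mul, mul_inv_cancel, B.l_one]

theorem r_r_inv (s : S) (b : B.X) : B.r (B.r b s) s⁻¹ = b := by
  rw [← B.r_mul, mul_inv_cancel, B.r_one]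

theorem r_inv_r (s : S) (b : B.X) : B.r (B.r b s⁻¹) s = b := by
  rw [← B.r_mul, inv_mul_cancel, B.r_one]

/-- left multiplication as a permutation -/
def lperm (s : S) : Equiv.Perm B.X where
  toFun := B.l s
  invFun := B.l s⁻¹
  left_inv := B.l_inv_l s
  right_inv := B.l_l_inv s

/-- left multiplication as a homomorphism to the permutation group -/
def iota : S →* Equiv.Perm B.X where
  toFun := B.lperm
  map_one' := by
    ext b; simp [lperm, B.l_one]
  map_mul' := by
    intro s t; ext b; simp [lperm, B.l_mul]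

@[simp] theorem iota_apply (s : S) (b : B.X) : B.iota s b = B.l s b := rfl

/-- the stabilizer domain of `b`: elements whose left action on `b` is a right action. -/
def stab (b : B.X) : Subgroup S where
  carrier := {s | ∃ t, B.l s b = B.r b t}
  one_mem' := ⟨1, by rw [B.l_one, B.r_one]⟩
  mul_mem' := by
    rintro s s' ⟨t, ht⟩ ⟨t', ht'⟩
    refine ⟨t * t', ?_⟩
    rw [B.l_mul, ht', ← B.lr, ht, B.r_mul]
  inv_mem' := by
    rintro s ⟨t, ht⟩
    refine ⟨t⁻¹, ?_⟩
    apply B.l_inj s
    rw [B.l_l_inv, ← B.lr, ht, B.r_r_inv]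

theorem mem_stab (b : B.X) (s : S) : s ∈ B.stab b ↔ ∃ t, B.l s b = B.r b t := Iff.rfl

/-- the map `s ↦ t` with `s b = b t` on the stabilizer domain. -/
noncomputable def stabFun (b : B.X) (s : B.stab b) : S := Classical.choose s.2

theorem stabFun_spec (b : B.X) (s : B.stab b) : B.l (s : S) b = B.r b (B.stabFun b s) :=
  Classical.choose_spec s.2

theorem stabFun_unique (b : B.X) (s : B.stab b) (t : S) (h : B.l (s : S) b = B.r b t) :
    B.stabFun b s = t := by
  apply B.r_cancel (b := b)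
  rw [← B.stabFun_spec, h]

/-- the stabilizer homomorphism. -/
noncomputable def stabHom (b : B.X) : B.stab b →* S where
  toFun := B.stabFun b
  map_one' := by
    apply B.stabFun_unique
    simp [B.l_one, B.r_one]
  map_mul' := by
    intro s s'
    apply B.stabFun_unique
    rw [Subgroup.coe_mul, B.l_mul, B.stabFun_spec b s', ← B.lr, B.stabFun_spec b s, B.r_mul]

theorem stabHom_spec (b : B.X) (s : B.stab b) : B.l (s : S) b = B.r b (B.stabHom b s) :=
  B.stabFun_spec b s

theorem stabHom_unique (b : B.X) (s : B.stab b) (t : S) (h : B.l (s : S) b = B.r b t) :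
    B.stabHom b s = t := B.stabFun_unique b s t h

theorem Q_le_stab (b : B.X) : Q ≤ B.stab b := by
  intro x hx
  exact ⟨_, B.qact ⟨x, hx⟩ b⟩

theorem stabHom_Q (b : B.X) (x : Q) : B.stabHom b ⟨x, B.Q_le_stab b x.2⟩ = (((B.θ b)⁻¹ x : Q) : S) :=
  B.stabHom_unique b _ _ (B.qact x b)

end TBiset

end Cfsg.Agent.LeadModel
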