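import Mathlib
import Cfsg.Agent.Lib.Lead.Model.Biset

set_option autoImplicit false

/-!
# The group of typed equivariant permutations of a typed biset
-/

namespace Cfsg.Agent.LeadModel

universe u

variable {S : Type u} [Group S]

/-- the action of `Aut(Q)` on the centre of `Q`. -/
def zact {Q : Type*} [Group Q] : MulAut Q →* MulAut (Subgroup.center Q) where
  toFun γ :=
    { toFun := fun z => ⟨γ z, by
        rw [Subgroup.mem_center_iff]
        intro x
        have h := z.2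
        rw [Subgroup.mem_center_iff] at h
        have h1 := congrArg γ (h (γ⁻¹ x))
        simpa using h1⟩
      invFun := fun z => ⟨γ⁻¹ z, by
        rw [Subgroup.mem_center_iff]
        intro x
        have h := z.2
        rw [Subgroup.mem_center_iff] at h
        apply γ.injective
        rw [map_mul, map_mul, MulAut.apply_inv_self]
        exact h (γ x)⟩
      left_inv := by intro z; ext; simp
      right_inv := by intro z; ext; simp
      map_mul' := by intro z w; ext; simp }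
  map_one' := by ext z; simp
  map_mul' := by intro γ δ; ext z; simp

@[simp] theorem zact_coe {Q : Type*} [Group Q] (γ : MulAut Q) (z : Subgroup.center Q) :
    ((zact γ z : Subgroup.center Q) : Q) = γ (z : Q) := rfl

namespace TBiset

variable {Q : Subgroup S} [Q.Normal] {Γ : Subgroup (MulAut Q)} (B : TBiset Q Γ)

/-- the typed right-equivariant permutations. -/
def E : Subgroup (Equiv.Perm B.X) where
  carrier := {α | (∀ b s, α (B.r b s) = B.r (α b) s) ∧ ∃ γ ∈ Γ, ∀ b, B.θ (α b) = γ * B.θ b}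
  one_mem' := ⟨fun _ _ => rfl, 1, Γ.one_mem, fun b => by simp⟩
  mul_mem' := by
    rintro α β ⟨ha, γ, hγ, hα⟩ ⟨hb, δ, hδ, hβ⟩
    refine ⟨fun b s => ?_, γ * δ, Γ.mul_mem hγ hδ, fun b => ?_⟩
    · simp [Equiv.Perm.mul_apply, hb, ha]
    · simp [Equiv.Perm.mul_apply, hα, hβ, mul_assoc]
  inv_mem' := by
    rintro α ⟨ha, γ, hγ, hα⟩
    refine ⟨fun b s => ?_, γ⁻¹, Γ.inv_mem hγ, fun b => ?_⟩
    · apply α.injective
      rw [ha]
      simp
    · have h := hα (α⁻¹ b)
      rw [show α (α⁻¹ b) = b by simp] at h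
      rw [h]
      simp

theorem mem_E (α : Equiv.Perm B.X) : α ∈ B.E ↔
    (∀ b s, α (B.r b s) = B.r (α b) s) ∧ ∃ γ ∈ Γ, ∀ b, B.θ (α b) = γ * B.θ b := Iff.rfl

/-- a base point of type `1`. -/
noncomputable def base : B.X := Classical.choose (B.θ_surj 1 Γ.one_mem)

/-- the type of an element of `E`. -/
noncomputable def typFun (α : Equiv.Perm B.X) : MulAut Q := B.θ (α B.base) * (B.θ B.base)⁻¹

theorem typFun_spec {α : Equiv.Perm B.X} (hα : α ∈ B.E) (b : B.X) :
    B.θ (α b) = B.typFun α * B.θ b := by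
  obtain ⟨_, γ, _, h⟩ := hα
  have : B.typFun α = γ := by
    unfold typFun
    rw [h]
    simp
  rw [this, h]

theorem typFun_mem {α : Equiv.Perm B.X} (hα : α ∈ B.E) : B.typFun α ∈ Γ := by
  obtain ⟨_, γ, hγ, h⟩ := hα
  have : B.typFun α = γ := by
    unfold typFun
    rw [h]
    simp
  rw [this]
  exact hγ

theorem typFun_unique {α : Equiv.Perm B.X} (γ : MulAut Q) (h : ∀ b, B.θ (α b) = γ * B.θ b) :
    B.typFun α = γ := by
  unfold typFun
  rw [h]
  simp

/-- the type homomorphism. -/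
noncomputable def typ : B.E →* MulAut Q where
  toFun α := B.typFun α.1
  map_one' := by
    apply B.typFun_unique
    intro b
    simp
  map_mul' := by
    intro α β
    apply B.typFun_unique
    intro b
    simp only [Subgroup.coe_mul, Equiv.Perm.mul_apply]
    rw [B.typFun_spec α.2, B.typFun_spec β.2, mul_assoc]

theorem typ_spec (α : B.E) (b : B.X) : B.θ (α.1 b) = B.typ α * B.θ b := B.typFun_spec α.2 b

theorem typ_mem (α : B.E) : B.typ α ∈ Γ := B.typFun_mem α.2

theorem E_equivariant (α : B.E) (b : B.X) (s : S) : α.1 (B.r b s) = B.r (α.1 b) s := α.2.1 b s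

/-- the kernel of the type map, as a subgroup of the permutation group. -/
def T : Subgroup (Equiv.Perm B.X) where
  carrier := {α | (∀ b s, α (B.r b s) = B.r (α b) s) ∧ ∀ b, B.θ (α b) = B.θ b}
  one_mem' := ⟨fun _ _ => rfl, fun _ => rfl⟩
  mul_mem' := by
    rintro α β ⟨ha, hα⟩ ⟨hb, hβ⟩
    refine ⟨fun b s => ?_, fun b => ?_⟩
    · simp [Equiv.Perm.mul_apply, hb, ha]
    · simp [Equiv.Perm.mul_apply, hα, hβ]
  inv_mem' := by
    rintro α ⟨ha, hα⟩
    refine ⟨fun b s => ?_, fun b => ?_⟩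
    · apply α.injective
      rw [ha]
      simp
    · have h := hα (α⁻¹ b)
      rw [show α (α⁻¹ b) = b by simp] at h
      rw [h]

theorem T_le_E : B.T ≤ B.E := by
  rintro α ⟨h1, h2⟩
  exact ⟨h1, 1, Γ.one_mem, fun b => by simp [h2]⟩

theorem mem_T_iff (α : B.E) : α.1 ∈ B.T ↔ B.typ α = 1 := by
  constructor
  · rintro ⟨_, h2⟩
    apply B.typFun_unique
    intro b
    simp [h2]
  · intro h
    refine ⟨α.2.1, fun b => ?_⟩
    rw [B.typ_spec, h, one_mul]

theorem conj_mem_T {ε α : Equiv.Perm B.X} (hε : ε ∈ B.E) (hα : α ∈ B.T) : ε * α * ε⁻¹ ∈ B.T := by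
  have h1 : (⟨ε * α * ε⁻¹, B.E.mul_mem (B.E.mul_mem hε (B.T_le_E hα)) (B.E.inv_mem hε)⟩ : B.E).1 ∈ B.T := by
    rw [mem_T_iff]
    have : (⟨ε * α * ε⁻¹, B.E.mul_mem (B.E.mul_mem hε (B.T_le_E hα)) (B.E.inv_mem hε)⟩ : B.E)
        = ⟨ε, hε⟩ * ⟨α, B.T_le_E hα⟩ * ⟨ε, hε⟩⁻¹ := rfl
    rw [this, map_mul, map_mul, map_inv, (B.mem_T_iff ⟨α, B.T_le_E hα⟩).mp hα]
    simp
  exact h1

section zeta

variable (hc : Subgroup.centralizer (Q : Set S) ≤ Q)

include hc in
theorem central_of_cj_eq_one (t : S) (h : cj Q t = 1) :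
    ∃ z : Subgroup.center Q, ((z : Q) : S) = t := by
  have h1 : t ∈ Subgroup.centralizer (Q : Set S) := by
    rw [Subgroup.mem_centralizer_iff]
    intro x hx
    have h2 := congrArg (fun f : MulAut Q => ((f ⟨x, hx⟩ : Q) : S)) h
    simp only [cj_apply, MulAut.one_apply] at h2
    calc x * t = (t * x * t⁻¹) * t := by rw [h2]
      _ = t * x := by group
  have htQ : t ∈ Q := hc h1
  refine ⟨⟨⟨t, htQ⟩, ?_⟩, rfl⟩
  rw [Subgroup.mem_center_iff]
  intro x
  apply Subtype.ext
  simp only [Subgroup.coe_mul]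
  rw [Subgroup.mem_centralizer_iff] at h1
  exact h1 x x.2

theorem cj_center (z : Subgroup.center Q) : cj Q ((z : Q) : S) = 1 := by
  ext x
  rw [cj_apply]
  simp only [MulAut.one_apply]
  have h := z.2
  rw [Subgroup.mem_center_iff] at h
  have h1 := congrArg (fun y : Q => (y : S)) (h x)
  simp only [Subgroup.coe_mul] at h1
  rw [← h1]
  group

include hc in
theorem exists_zeta {α : Equiv.Perm B.X} (hα : α ∈ B.T) (b : B.X) :
    ∃ z : Subgroup.center Q, α b = B.r b ((z : Q) : S) := by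
  obtain ⟨t, ht⟩ := B.trans b (α b) 1 (by rw [hα.2 b]; simp)
  have h1 : B.θ b * cj Q t = B.θ b := by
    rw [← B.θ_r, ← ht, hα.2 b]
  have h2 : cj Q t = 1 := by
    have := congrArg (fun f => (B.θ b)⁻¹ * f) h1
    simpa using this
  obtain ⟨z, hz⟩ := central_of_cj_eq_one hc t h2
  exact ⟨z, by rw [hz]; exact ht⟩

open Classical in
/-- `ζ_α(b)`: the central element with `α b = b ζ`. -/
noncomputable def zeta (α : Equiv.Perm B.X) (b : B.X) : Subgroup.center Q :=
  if h : ∃ z : Subgroup.center Q, α b = B.r b ((z : Q) : S) then Classical.choose h else 1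

include hc in
theorem zeta_spec {α : Equiv.Perm B.X} (hα : α ∈ B.T) (b : B.X) :
    α b = B.r b ((B.zeta α b : Q) : S) := by
  unfold zeta
  rw [dif_pos (B.exists_zeta hc hα b)]
  exact Classical.choose_spec (B.exists_zeta hc hα b)

theorem zeta_unique {α : Equiv.Perm B.X} (b : B.X) (z : Subgroup.center Q)
    (h : α b = B.r b ((z : Q) : S)) : B.zeta α b = z := by
  have hex : ∃ z : Subgroup.center Q, α b = B.r b ((z : Q) : S) := ⟨z, h⟩
  unfold zeta
  rw [dif_pos hex]
  have h1 := Classical.choose_spec hex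
  have h2 := B.r_cancel (h1.symm.trans h)
  apply Subtype.ext
  apply Subtype.ext
  exact h2

/-- the weighted value `θ(b)(ζ_α(b))`. -/
noncomputable def fz (α : Equiv.Perm B.X) (b : B.X) : Subgroup.center Q := zact (B.θ b) (B.zeta α b)

include hc in
theorem zeta_r {α : Equiv.Perm B.X} (hα : α ∈ B.T) (b : B.X) (s : S) :
    B.zeta α (B.r b s) = zact (cj Q s)⁻¹ (B.zeta α b) := by
  apply B.zeta_unique
  rw [hα.1, B.zeta_spec hc hα b, ← B.r_mul, ← B.r_mul]
  congr 1
  have : (((zact (cj Q s)⁻¹ (B.zeta α b) : Subgroup.center Q) : Q) : S) = s⁻¹ * ((B.zeta α b : Q) : S) * s := by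
    rw [zact_coe, ← map_inv, cj_apply]
    simp
  rw [this]
  group

include hc in
theorem fz_r {α : Equiv.Perm B.X} (hα : α ∈ B.T) (b : B.X) (s : S) :
    B.fz α (B.r b s) = B.fz α b := by
  unfold fz
  rw [B.zeta_r hc hα, B.θ_r, map_mul]
  simp

include hc in
theorem zeta_mul {α β : Equiv.Perm B.X} (hα : α ∈ B.T) (hβ : β ∈ B.T) (b : B.X) :
    B.zeta (α * β) b = B.zeta α b * B.zeta β b := by
  apply B.zeta_unique
  rw [Equiv.Perm.mul_apply, B.zeta_spec hc hβ b, hα.1, B.zeta_spec hc hα b, ← B.r_mul]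
  simp

include hc in
theorem fz_mul {α β : Equiv.Perm B.X} (hα : α ∈ B.T) (hβ : β ∈ B.T) (b : B.X) :
    B.fz (α * β) b = B.fz α b * B.fz β b := by
  unfold fz
  rw [B.zeta_mul hc hα hβ, map_mul]

include hc in
theorem zeta_conj {ε α : Equiv.Perm B.X} (hε : ε ∈ B.E) (hα : α ∈ B.T) (b : B.X) :
    B.zeta (ε * α * ε⁻¹) (ε b) = B.zeta α b := by
  apply B.zeta_unique
  simp only [Equiv.Perm.mul_apply]
  rw [show ε⁻¹ (ε b) = b by simp, B.zeta_spec hc hα b, hε.1]

include hc in
theorem fz_conj {ε α : Equiv.Perm B.X} (hε : ε ∈ B.E) (hα : α ∈ B.T) (b : B.X) :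
    B.fz (ε * α * ε⁻¹) (ε b) = zact (B.typFun ε) (B.fz α b) := by
  unfold fz
  rw [B.zeta_conj hc hε hα, B.typFun_spec hε, map_mul]
  simp

end zeta

end TBiset

end Cfsg.Agent.LeadModel
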