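import Mathlib
import Cfsg.Agent.Lib.Lead.Model.Ext

set_option autoImplicit false

/-!
# The homomorphism `ρ₀ : T → Z(Q)` and its kernel
-/

namespace Cfsg.Agent.LeadModel

open scoped IsMulCommutative

universe u

variable {S : Type u} [Group S]

namespace TBiset

variable {Q : Subgroup S} [Q.Normal] {Γ : Subgroup (MulAut Q)} (B : TBiset Q Γ)

/-- the right-orbit relation. -/
def orbSetoid : Setoid B.X where
  r b b' := ∃ s, b' = B.r b s
  iseqv := ⟨fun b => ⟨1, (B.r_one b).symm⟩,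
    fun {b b'} ⟨s, h⟩ => ⟨s⁻¹, by rw [h, B.r_r_inv]⟩,
    fun {b b' b''} ⟨s, h⟩ ⟨t, h'⟩ => ⟨s * t, by rw [h', h, B.r_mul]⟩⟩

/-- the set of right orbits. -/
abbrev Orb := Quotient B.orbSetoid

instance : Finite B.Orb := Quotient.finite _

theorem orb_out_rel (b : B.X) : ∃ s, b = B.r (Quotient.out (Quotient.mk B.orbSetoid b)) s :=
  Quotient.exact (Quotient.out_eq (Quotient.mk B.orbSetoid b))

theorem finiteMulSupport {M : Type*} [One M] (f : B.Orb → M) : Function.HasFiniteMulSupport f :=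
  Set.toFinite _

/-- the product over right orbits of `θ(b)(ζ_α(b))`. -/
noncomputable def rho0 (α : Equiv.Perm B.X) : Subgroup.center Q :=
  ∏ᶠ o : B.Orb, B.fz α (Quotient.out o)

variable (hc : Subgroup.centralizer (Q : Set S) ≤ Q)

include hc in
theorem rho0_mul {α β : Equiv.Perm B.X} (hα : α ∈ B.T) (hβ : β ∈ B.T) :
    B.rho0 (α * β) = B.rho0 α * B.rho0 β := by
  unfold rho0
  rw [← finprod_mul_distrib (B.finiteMulSupport _) (B.finiteMulSupport _)]
  exact finprod_congr (fun o => B.fz_mul hc hα hβ _)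

theorem rho0_one : B.rho0 1 = 1 := by
  unfold rho0
  have : ∀ o : B.Orb, B.fz 1 (Quotient.out o) = 1 := by
    intro o
    unfold fz
    rw [B.zeta_unique (α := 1) (Quotient.out o) 1 (by simp [B.r_one])]
    simp
  simp [this]

include hc in
theorem rho0_inv {α : Equiv.Perm B.X} (hα : α ∈ B.T) : B.rho0 α⁻¹ = (B.rho0 α)⁻¹ := by
  have h := B.rho0_mul hc hα (B.T.inv_mem hα)
  rw [mul_inv_cancel, B.rho0_one] at h
  exact (inv_eq_of_mul_eq_one_right h.symm).symm

include hc in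
theorem rho0_conj {ε α : Equiv.Perm B.X} (hε : ε ∈ B.E) (hα : α ∈ B.T) :
    B.rho0 (ε * α * ε⁻¹) = zact (B.typFun ε) (B.rho0 α) := by
  unfold rho0
  rw [MulEquiv.map_finprod]
  symm
  have hα' := B.conj_mem_T hε hα
  let e : B.Orb → B.Orb := fun o => Quotient.mk B.orbSetoid (ε (Quotient.out o))
  have hinj : Function.Injective e := by
    intro o o' h
    obtain ⟨s, hs⟩ := Quotient.exact h
    rw [← hε.1] at hs
    have h1 := ε.injective hs
    rw [← Quotient.out_eq o, ← Quotient.out_eq o']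
    exact Quotient.sound ⟨s, h1⟩
  have hbij : Function.Bijective e := Finite.injective_iff_bijective.mp hinj
  refine finprod_eq_of_bijective e hbij (fun o => ?_)
  obtain ⟨s, hs⟩ := B.orb_out_rel (ε (Quotient.out o))
  rw [← B.fz_conj hc hε hα]
  conv_lhs => rw [hs]
  rw [B.fz_r hc hα']

/-- the kernel of `ρ₀`. -/
def K (hc : Subgroup.centralizer (Q : Set S) ≤ Q) : Subgroup (Equiv.Perm B.X) where
  carrier := {α | α ∈ B.T ∧ B.rho0 α = 1}
  one_mem' := ⟨B.T.one_mem, B.rho0_one⟩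
  mul_mem' := by
    rintro α β ⟨hα, h1⟩ ⟨hβ, h2⟩
    refine ⟨B.T.mul_mem hα hβ, ?_⟩
    rw [B.rho0_mul hc hα hβ, h1, h2, one_mul]
  inv_mem' := by
    rintro α ⟨hα, h1⟩
    refine ⟨B.T.inv_mem hα, ?_⟩
    rw [B.rho0_inv hc hα, h1, inv_one]

theorem mem_K {α : Equiv.Perm B.X} : α ∈ B.K hc ↔ α ∈ B.T ∧ B.rho0 α = 1 := Iff.rfl

theorem K_le_T : B.K hc ≤ B.T := fun _ h => h.1

theorem K_le_E : B.K hc ≤ B.E := fun _ h => B.T_le_E h.1

theorem conj_mem_K {ε α : Equiv.Perm B.X} (hε : ε ∈ B.E) (hα : α ∈ B.K hc) : ε * α * ε⁻¹ ∈ B.K hc := by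
  refine ⟨B.conj_mem_T hε hα.1, ?_⟩
  rw [B.rho0_conj hc hε hα.1, hα.2, map_one]

instance K_normal : ((B.K hc).subgroupOf B.E).Normal := by
  constructor
  intro n hn g
  rw [Subgroup.mem_subgroupOf] at hn ⊢
  exact B.conj_mem_K hc g.2 hn

/-! ### the left action of `Z(Q)` -/

theorem iota_mem_E (hΓ : (cj Q).range ≤ Γ) (s : S) : B.iota s ∈ B.E := by
  refine ⟨fun b t => ?_, cj Q s, hΓ ⟨s, rfl⟩, fun b => ?_⟩
  · simp [B.lr]
  · simp [B.θ_l]

theorem typFun_iota (s : S) : B.typFun (B.iota s) = cj Q s := by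
  apply B.typFun_unique
  intro b
  simp [B.θ_l]

theorem iota_center_mem_T (z : Subgroup.center Q) : B.iota ((z : Q) : S) ∈ B.T := by
  refine ⟨fun b t => ?_, fun b => ?_⟩
  · simp [B.lr]
  · simp [B.θ_l, cj_center]

theorem zeta_iota (z : Subgroup.center Q) (b : B.X) :
    B.zeta (B.iota ((z : Q) : S)) b = zact (B.θ b)⁻¹ z := by
  apply B.zeta_unique
  rw [iota_apply, B.qact]
  rfl

theorem fz_iota (z : Subgroup.center Q) (b : B.X) : B.fz (B.iota ((z : Q) : S)) b = z := by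
  unfold fz
  rw [B.zeta_iota, map_inv]
  simp

theorem rho0_iota (z : Subgroup.center Q) : B.rho0 (B.iota ((z : Q) : S)) = z ^ Nat.card B.Orb := by
  unfold rho0
  haveI : Fintype B.Orb := Fintype.ofFinite _
  rw [finprod_eq_prod_of_fintype]
  simp only [B.fz_iota]
  rw [Finset.prod_const, Finset.card_univ, Nat.card_eq_fintype_card]

/-! ### counting right orbits -/

theorem card_orb (hΓ : (cj Q).range ≤ Γ) :
    Nat.card B.Orb = ((cj Q).range.subgroupOf Γ).index := by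
  rw [Subgroup.index]
  let f : B.Orb → (Γ ⧸ (cj Q).range.subgroupOf Γ) :=
    Quotient.lift (s := B.orbSetoid) (fun b => (QuotientGroup.mk ⟨B.θ b, B.θ_mem b⟩ : Γ ⧸ (cj Q).range.subgroupOf Γ)) (by
      rintro b b' ⟨s, hs⟩
      rw [QuotientGroup.eq, Subgroup.mem_subgroupOf]
      simp only [Subgroup.coe_mul, Subgroup.coe_inv]
      rw [hs, B.θ_r]
      simp)
  apply Nat.card_congr
  refine Equiv.ofBijective f ⟨?_, ?_⟩
  · intro o o'
    refine Quotient.inductionOn₂ o o' (fun b b' h => ?_)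
    simp only [f, Quotient.lift_mk] at h
    rw [QuotientGroup.eq, Subgroup.mem_subgroupOf] at h
    simp only [Subgroup.coe_mul, Subgroup.coe_inv] at h
    obtain ⟨s, hs⟩ := h
    have h1 : B.θ b' = B.θ b * cj Q s := by
      rw [hs]; simp
    obtain ⟨t, ht⟩ := B.trans b b' s h1
    exact Quotient.sound ⟨t, ht⟩
  · intro x
    refine Quotient.inductionOn' x (fun γ => ?_)
    obtain ⟨b, hb⟩ := B.θ_surj γ.1 γ.2
    refine ⟨Quotient.mk _ b, ?_⟩
    simp only [f, Quotient.lift_mk]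
    congr 1
    exact Subtype.ext hb

theorem card_orb_mul (hΓ : (cj Q).range ≤ Γ) :
    Nat.card (cj Q).range * Nat.card B.Orb = Nat.card Γ := by
  rw [B.card_orb hΓ, ← Subgroup.card_mul_index ((cj Q).range.subgroupOf Γ)]
  congr 1
  exact (Nat.card_congr (Subgroup.subgroupOfEquivOfLe hΓ).toEquiv).symm

end TBiset

end Cfsg.Agent.LeadModel
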