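import Mathlib
import Cfsg.Agent.Lib.Lead.Model.Ext2

set_option autoImplicit false

/-!
# The model group `G = E / K`
-/

namespace Cfsg.Agent.LeadModel

open scoped IsMulCommutative

universe u

variable {S : Type u} [Group S]

namespace TBiset

variable {Q : Subgroup S} [Q.Normal] {Γ : Subgroup (MulAut Q)} (B : TBiset Q Γ)
variable (hc : Subgroup.centralizer (Q : Set S) ≤ Q) (hΓ : (cj Q).range ≤ Γ)

/-- the model group. -/
abbrev G := B.E ⧸ (B.K hc).subgroupOf B.E

/-- left multiplication, into `E`. -/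
def iotaE : S →* B.E := B.iota.codRestrict B.E (B.iota_mem_E hΓ)

@[simp] theorem iotaE_coe (s : S) : ((B.iotaE hΓ s : B.E) : Equiv.Perm B.X) = B.iota s := rfl

/-- left multiplication, into `G`. -/
def iotaG : S →* B.G hc := (QuotientGroup.mk' _).comp (B.iotaE hΓ)

theorem iotaG_apply (s : S) : B.iotaG hc hΓ s = QuotientGroup.mk (B.iotaE hΓ s) := rfl

/-- the type homomorphism on `G`. -/
noncomputable def typG : B.G hc →* MulAut Q := QuotientGroup.lift _ B.typ (by
  intro α hα
  rw [Subgroup.mem_subgroupOf] at hα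
  exact (B.mem_T_iff α).mp hα.1)

@[simp] theorem typG_mk (α : B.E) : B.typG hc (QuotientGroup.mk α) = B.typ α := rfl

theorem typ_iotaE (s : S) : B.typ (B.iotaE hΓ s) = cj Q s := B.typFun_iota s

theorem typG_iotaG (s : S) : B.typG hc (B.iotaG hc hΓ s) = cj Q s := B.typFun_iota s

theorem typG_mem (g : B.G hc) : B.typG hc g ∈ Γ := by
  refine QuotientGroup.induction_on g (fun α => ?_)
  exact B.typ_mem α

theorem conj_iotaE_Q (α : B.E) (x : Q) :
    α * B.iotaE hΓ (x : S) * α⁻¹ = B.iotaE hΓ ((B.typ α x : Q) : S) := by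
  apply Subtype.ext
  apply Equiv.ext
  intro b
  simp only [Subgroup.coe_mul, Subgroup.coe_inv, iotaE_coe, Equiv.Perm.mul_apply, iota_apply]
  have h1 : B.θ b = B.typ α * B.θ ((α.1)⁻¹ b) := by
    rw [← B.typ_spec]
    simp
  rw [B.qact x, α.2.1, B.qact]
  rw [show α.1 ((α.1)⁻¹ b) = b by simp]
  congr 2
  rw [h1]
  simp

theorem conj_iotaG_Q (g : B.G hc) (x : Q) :
    g * B.iotaG hc hΓ (x : S) * g⁻¹ = B.iotaG hc hΓ ((B.typG hc g x : Q) : S) := by
  refine QuotientGroup.induction_on g (fun α => ?_)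
  rw [typG_mk, iotaG_apply, iotaG_apply, ← B.conj_iotaE_Q hΓ α x]
  rfl

section pgroup

variable [Finite S] (p : ℕ) [hp : Fact p.Prime] (hS : IsPGroup p S) (hn : ¬ p ∣ Nat.card B.Orb)

include hS hn in
theorem pow_card_orb_injective (z : Subgroup.center Q) (h : z ^ Nat.card B.Orb = 1) : z = 1 := by
  have hZ : IsPGroup p (Subgroup.center Q) := (hS.to_subgroup Q).to_subgroup _
  have hcop : p.Coprime (Nat.card B.Orb) := (Nat.Prime.coprime_iff_not_dvd hp.out).mpr hn
  have := (hZ.powEquiv hcop).injective (a₁ := z) (a₂ := 1)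
  apply this
  simp [IsPGroup.powEquiv_apply, h]

include hS hn in
theorem pow_card_orb_surjective (w : Subgroup.center Q) : ∃ z : Subgroup.center Q, z ^ Nat.card B.Orb = w := by
  have hZ : IsPGroup p (Subgroup.center Q) := (hS.to_subgroup Q).to_subgroup _
  have hcop : p.Coprime (Nat.card B.Orb) := (Nat.Prime.coprime_iff_not_dvd hp.out).mpr hn
  obtain ⟨z, hz⟩ := (hZ.powEquiv hcop).surjective w
  exact ⟨z, hz⟩

include hS hn in
theorem iotaG_injective : Function.Injective (B.iotaG hc hΓ) := by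
  rw [injective_iff_map_eq_one]
  intro s hs
  rw [iotaG_apply, QuotientGroup.eq_one_iff, Subgroup.mem_subgroupOf] at hs
  have hT : B.iota s ∈ B.T := hs.1
  have h1 : cj Q s = 1 := by
    have := hT.2 B.base
    rw [iota_apply, B.θ_l] at this
    have h2 := congrArg (fun f => f * (B.θ B.base)⁻¹) this
    simpa using h2
  obtain ⟨z, hz⟩ := central_of_cj_eq_one hc s h1
  have h3 : B.rho0 (B.iota s) = 1 := hs.2
  rw [← hz, B.rho0_iota] at h3
  have := B.pow_card_orb_injective p hS hn z h3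
  rw [← hz, this]
  simp

include hS hn in
theorem exists_center_of_typG_eq_one (g : B.G hc) (h : B.typG hc g = 1) :
    ∃ z : Subgroup.center Q, g = B.iotaG hc hΓ ((z : Q) : S) := by
  revert h
  refine QuotientGroup.induction_on g (fun α h => ?_)
  rw [typG_mk] at h
  have hT : α.1 ∈ B.T := (B.mem_T_iff α).mpr h
  obtain ⟨z, hz⟩ := B.pow_card_orb_surjective p hS hn (B.rho0 α.1)
  refine ⟨z, ?_⟩
  rw [iotaG_apply, QuotientGroup.eq, Subgroup.mem_subgroupOf]
  simp only [Subgroup.coe_mul, Subgroup.coe_inv, iotaE_coe]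
  refine ⟨B.T.mul_mem (B.T.inv_mem hT) (B.iota_center_mem_T z), ?_⟩
  rw [B.rho0_mul hc (B.T.inv_mem hT) (B.iota_center_mem_T z), B.rho0_inv hc hT, B.rho0_iota, hz]
  simp

end pgroup

end TBiset

end Cfsg.Agent.LeadModel
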