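import Mathlib
import Cfsg.Agent.Lib.Lead.Model.Ext3

set_option autoImplicit false

/-!
# The stability lemma
-/

namespace Cfsg.Agent.LeadModel

open scoped IsMulCommutative

universe u

variable {S : Type u} [Group S]

theorem Q_le_Ngam (Q : Subgroup S) [Q.Normal] (γ : MulAut Q) : Q ≤ Ngam Q γ := by
  intro x hx
  rw [mem_Ngam]
  refine ⟨((γ ⟨x, hx⟩ : Q) : S), ?_⟩
  ext y
  simp only [MulAut.mul_apply, cj_apply]
  have : ((γ (cj Q x (γ⁻¹ y)) : Q) : S) = ((γ (⟨x, hx⟩ * γ⁻¹ y * ⟨x, hx⟩⁻¹) : Q) : S) := by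
    congr 2
  rw [this, map_mul, map_mul, map_inv]
  simp

/-- a homomorphism on `N_γ` extending `γ` conjugates `c_s` to `γ c_s γ⁻¹`. -/
theorem cj_ext {Q : Subgroup S} [Q.Normal] {γ : MulAut Q} (φ : Ngam Q γ →* S)
    (hφQ : ∀ (x : Q) (hx : (x : S) ∈ Ngam Q γ), φ ⟨x, hx⟩ = γ x) (s : Ngam Q γ) :
    cj Q (φ s) = γ * cj Q s * γ⁻¹ := by
  ext x
  simp only [MulAut.mul_apply, cj_apply]
  set y : Q := γ⁻¹ x with hy
  have hx : x = γ y := by simp [hy]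
  have hyN : (y : S) ∈ Ngam Q γ := Q_le_Ngam Q γ y.2
  have h1 : ((cj Q s y : Q) : S) ∈ Ngam Q γ := Q_le_Ngam Q γ (cj Q s y).2
  have h2 : φ ⟨((cj Q s y : Q) : S), h1⟩ = γ (cj Q s y) := hφQ _ h1
  have h3 : (⟨((cj Q s y : Q) : S), h1⟩ : Ngam Q γ) = s * ⟨y, hyN⟩ * s⁻¹ := by
    apply Subtype.ext
    simp [cj_apply]
  rw [← h2, h3, map_mul, map_mul, map_inv, hφQ y hyN, ← hx]

namespace TBiset

variable {Q : Subgroup S} [Q.Normal] {Γ : Subgroup (MulAut Q)} (B : TBiset Q Γ)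
variable {p : ℕ} {H : (A : Subgroup S) → Set (A →* S)} (h : Hyp p Q Γ H)
variable (hB : ∀ b, B.stabHom b ∈ H (B.stab b))
variable {γ : MulAut Q} (hγ : γ ∈ Γ) (φ : Ngam Q γ →* S) (hφ : φ ∈ H (Ngam Q γ))
variable (hφQ : ∀ (x : Q) (hx : (x : S) ∈ Ngam Q γ), φ ⟨x, hx⟩ = γ x)

include h hB hγ hφ hφQ in
theorem exists_target (b₀ : B.X) : ∃ b'' : B.X, B.θ b'' = γ * B.θ b₀ ∧
    ∀ (s : Ngam Q γ) (t : S), B.l (s : S) b₀ = B.r b₀ t → B.l (φ s) b'' = B.r b'' t := by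
  obtain ⟨b', hb'⟩ := B.θ_surj (γ * B.θ b₀) (Γ.mul_mem hγ (B.θ_mem b₀))
  let M : Subgroup S := Ngam Q γ ⊓ B.stab b₀
  have hQM : Q ≤ M := le_inf (Q_le_Ngam Q γ) (B.Q_le_stab b₀)
  let ψ : M →* S := (B.stabHom b₀).comp (Subgroup.inclusion inf_le_right)
  have hψ : ψ ∈ H M := h.H_restrict inf_le_right _ (hB b₀)
  let φM : M →* S := φ.comp (Subgroup.inclusion inf_le_left)
  have hφM : φM ∈ H M := h.H_restrict inf_le_left _ hφ
  have hmap : ∀ a : M, φM a ∈ B.stab b' := by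
    intro a
    obtain ⟨t, ht⟩ := a.2.2
    have h1 : B.θ (B.l (φM a) b') = B.θ b' * cj Q t := by
      rw [B.θ_l, hb']
      have h2 : cj Q (φM a) = γ * cj Q (a : S) * γ⁻¹ := cj_ext φ hφQ ⟨a, a.2.1⟩
      rw [h2]
      have h3 : cj Q (a : S) * B.θ b₀ = B.θ b₀ * cj Q t := by
        rw [← B.θ_l, ht, B.θ_r]
      calc γ * cj Q (a : S) * γ⁻¹ * (γ * B.θ b₀) = γ * (cj Q (a : S) * B.θ b₀) := by group
        _ = γ * B.θ b₀ * cj Q t := by rw [h3, mul_assoc]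
    obtain ⟨t', ht'⟩ := B.trans b' _ t h1
    exact ⟨t', ht'⟩
  let ψ' : M →* S := (B.stabHom b').comp (φM.codRestrict (B.stab b') hmap)
  have hψ' : ψ' ∈ H M := h.H_comp φM (B.stabHom b') hφM (hB b') hmap
  have hψQ : ∀ x : Q, ψ ⟨x, hQM x.2⟩ = (((B.θ b₀)⁻¹ x : Q) : S) := fun x => B.stabHom_Q b₀ x
  have hagree : ∀ x : Q, ψ ⟨x, hQM x.2⟩ = ψ' ⟨x, hQM x.2⟩ := by
    intro x
    rw [hψQ]
    symm
    apply B.stabHom_unique
    have h1 : φM ⟨x, hQM x.2⟩ = γ x := hφQ x (Q_le_Ngam Q γ x.2)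
    show B.l (φM ⟨x, hQM x.2⟩) b' = _
    rw [h1, B.qact, hb']
    congr 2
    simp
  obtain ⟨z, hzc, hz⟩ := h.H_unique M hQM ψ ψ' hψ hψ' hagree
  set w : S := (((B.θ b₀)⁻¹ z : Q) : S) with hw
  have hψz : ψ ⟨z, hQM z.2⟩ = w := hψQ z
  have hcw : cj Q w = 1 := by
    have hzcen : z ∈ Subgroup.center Q := by
      rw [Subgroup.mem_center_iff]
      intro x
      exact (hzc x).symm
    exact cj_center (zact (B.θ b₀)⁻¹ ⟨z, hzcen⟩)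
  refine ⟨B.r b' w, ?_, ?_⟩
  · rw [B.θ_r, hcw, hb', mul_one]
  · intro s t hst
    let a : M := ⟨s, ⟨s.2, ⟨t, hst⟩⟩⟩
    have ha : ψ a = t := B.stabHom_unique b₀ _ t hst
    have h1 : B.l (φ s) b' = B.r b' (ψ' a) := B.stabHom_spec b' ⟨φM a, hmap a⟩
    have h2 : ψ' a = w * t * w⁻¹ := by
      rw [hz a, map_mul, map_mul, map_inv, hψz, ha]
    rw [← B.lr, h1, h2, ← B.r_mul, ← B.r_mul]
    congr 1
    group

end TBiset

end Cfsg.Agent.LeadModel
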