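import Mathlib
import Cfsg.Agent.Lib.Lead.Model.Stab

set_option autoImplicit false

/-!
# The stability lemma: construction of `α_γ`
-/

namespace Cfsg.Agent.LeadModel

open scoped IsMulCommutative

universe u

variable {S : Type u} [Group S]

namespace TBiset

variable {Q : Subgroup S} [Q.Normal] {Γ : Subgroup (MulAut Q)} (B : TBiset Q Γ)
variable (γ : MulAut Q)

/-- the `(N_γ, S)`-orbit relation. -/
def nsSetoid : Setoid B.X where
  r b b' := ∃ (n : Ngam Q γ) (s : S), b' = B.r (B.l (n : S) b) s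
  iseqv := ⟨fun b => ⟨1, 1, by simp [B.l_one, B.r_one]⟩,
    fun {b b'} ⟨n, s, h⟩ => ⟨n⁻¹, s⁻¹, by
      rw [h, ← B.lr, B.r_r_inv, Subgroup.coe_inv, B.l_inv_l]⟩,
    fun {b b' b''} ⟨n, s, h⟩ ⟨n', s', h'⟩ => ⟨n' * n, s * s', by
      rw [h', h, Subgroup.coe_mul, B.l_mul, B.r_mul, ← B.lr]⟩⟩

/-- orbit representative. -/
noncomputable def rep (b : B.X) : B.X := Quotient.out (Quotient.mk (B.nsSetoid γ) b)

theorem rep_rel (b : B.X) : ∃ (n : Ngam Q γ) (s : S), b = B.r (B.l (n : S) (B.rep γ b)) s :=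
  Quotient.exact (Quotient.out_eq (Quotient.mk (B.nsSetoid γ) b))

theorem rep_eq (b : B.X) (n : Ngam Q γ) (s : S) : B.rep γ (B.r (B.l (n : S) b) s) = B.rep γ b := by
  unfold rep
  congr 1
  exact (Quotient.sound (s := B.nsSetoid γ) ⟨n, s, rfl⟩).symm

/-- the `N_γ`-component of `b` relative to its representative. -/
noncomputable def nOf (b : B.X) : Ngam Q γ := Classical.choose (B.rep_rel γ b)

/-- the `S`-component of `b` relative to its representative. -/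
noncomputable def sOf (b : B.X) : S := Classical.choose (Classical.choose_spec (B.rep_rel γ b))

theorem nsOf_spec (b : B.X) : b = B.r (B.l (B.nOf γ b : S) (B.rep γ b)) (B.sOf γ b) :=
  Classical.choose_spec (Classical.choose_spec (B.rep_rel γ b))

variable {γ}
variable (φ : Ngam Q γ →* S) (tgt : B.X → B.X)
variable (htgt : ∀ (b₀ : B.X) (s : Ngam Q γ) (t : S), B.l (s : S) b₀ = B.r b₀ t → B.l (φ s) (tgt b₀) = B.r (tgt b₀) t)

include htgt in
theorem tgt_wd (b₀ : B.X) (n n' : Ngam Q γ) (s s' : S)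
    (hh : B.r (B.l (n : S) b₀) s = B.r (B.l (n' : S) b₀) s') :
    B.r (B.l (φ n) (tgt b₀)) s = B.r (B.l (φ n') (tgt b₀)) s' := by
  have h1 : B.l ((n'⁻¹ * n : Ngam Q γ) : S) b₀ = B.r b₀ (s' * s⁻¹) := by
    have h2 := congrArg (fun x => B.r x s⁻¹) hh
    simp only [B.r_r_inv] at h2
    rw [Subgroup.coe_mul, B.l_mul, h2, ← B.r_mul, B.lr, Subgroup.coe_inv, B.l_inv_l]
  have h3 := htgt b₀ _ _ h1
  rw [map_mul, map_inv, B.l_mul] at h3
  have h4 : B.l (φ n) (tgt b₀) = B.l (φ n') (B.r (tgt b₀) (s' * s⁻¹)) := by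
    rw [← h3, B.l_l_inv]
  rw [h4, ← B.lr, ← B.r_mul]
  congr 1
  group

/-- the map `α_γ`. -/
noncomputable def alphaFun (b : B.X) : B.X :=
  B.r (B.l (φ (B.nOf γ b)) (tgt (B.rep γ b))) (B.sOf γ b)

include htgt in
theorem alphaFun_eq (b : B.X) (n : Ngam Q γ) (s : S) :
    B.alphaFun φ tgt (B.r (B.l (n : S) b) s) = B.r (B.l (φ n) (B.alphaFun φ tgt b)) s := by
  set b₁ := B.r (B.l (n : S) b) s with hb₁
  have hrep : B.rep γ b₁ = B.rep γ b := B.rep_eq γ b n s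
  have e1 := B.nsOf_spec γ b
  have e2 := B.nsOf_spec γ b₁
  rw [hrep] at e2
  have e3 : b₁ = B.r (B.l ((n * B.nOf γ b : Ngam Q γ) : S) (B.rep γ b)) (B.sOf γ b * s) := by
    rw [hb₁]
    conv_lhs => rw [e1]
    rw [Subgroup.coe_mul, B.l_mul, B.r_mul, ← B.lr]
  have e4 := B.tgt_wd φ tgt htgt (B.rep γ b) _ _ _ _ (e2.symm.trans e3)
  unfold alphaFun
  rw [hrep, e4, map_mul, B.l_mul, B.r_mul, B.lr]

include htgt in
theorem alphaFun_r (b : B.X) (s : S) : B.alphaFun φ tgt (B.r b s) = B.r (B.alphaFun φ tgt b) s := by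
  have := B.alphaFun_eq φ tgt htgt b 1 s
  simpa [B.l_one] using this

include htgt in
theorem alphaFun_l (b : B.X) (n : Ngam Q γ) :
    B.alphaFun φ tgt (B.l (n : S) b) = B.l (φ n) (B.alphaFun φ tgt b) := by
  have := B.alphaFun_eq φ tgt htgt b n 1
  simpa [B.r_one] using this

variable (hφQ : ∀ (x : Q) (hx : (x : S) ∈ Ngam Q γ), φ ⟨x, hx⟩ = γ x)
variable (hθ : ∀ b₀, B.θ (tgt b₀) = γ * B.θ b₀)

include hφQ hθ in
theorem alphaFun_θ (b : B.X) : B.θ (B.alphaFun φ tgt b) = γ * B.θ b := by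
  have e1 := B.nsOf_spec γ b
  conv_rhs => rw [e1]
  unfold alphaFun
  rw [B.θ_r, B.θ_l, B.θ_r, B.θ_l, hθ, cj_ext φ hφQ]
  group

include htgt hφQ hθ in
theorem alphaFun_injective : Function.Injective (B.alphaFun φ tgt) := by
  intro b b' hbb
  have h1 : B.θ b' = B.θ b * cj Q 1 := by
    have := congrArg B.θ hbb
    rw [B.alphaFun_θ φ tgt hφQ hθ, B.alphaFun_θ φ tgt hφQ hθ] at this
    rw [map_one, mul_one]
    exact (mul_left_cancel this).symm
  obtain ⟨t, ht⟩ := B.trans b b' 1 h1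
  rw [ht, B.alphaFun_r φ tgt htgt] at hbb
  have h2 : B.r (B.alphaFun φ tgt b) 1 = B.r (B.alphaFun φ tgt b) t := by
    rw [B.r_one]; exact hbb
  have h3 := B.r_cancel h2
  rw [ht, ← h3, B.r_one]

/-- `α_γ` as a permutation. -/
noncomputable def alphaPerm : Equiv.Perm B.X :=
  Equiv.ofBijective (B.alphaFun φ tgt)
    (Finite.injective_iff_bijective.mp (B.alphaFun_injective φ tgt htgt hφQ hθ))

theorem alphaPerm_apply (b : B.X) : B.alphaPerm φ tgt htgt hφQ hθ b = B.alphaFun φ tgt b := rfl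

theorem alphaPerm_mem_E (hγ : γ ∈ Γ) : B.alphaPerm φ tgt htgt hφQ hθ ∈ B.E :=
  ⟨fun b s => B.alphaFun_r φ tgt htgt b s, γ, hγ, fun b => B.alphaFun_θ φ tgt hφQ hθ b⟩

theorem typFun_alphaPerm : B.typFun (B.alphaPerm φ tgt htgt hφQ hθ) = γ :=
  B.typFun_unique γ (fun b => B.alphaFun_θ φ tgt hφQ hθ b)

end TBiset

end Cfsg.Agent.LeadModel
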