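import Mathlib
import Cfsg.Agent.Lib.Lead.Model.Stab2

set_option autoImplicit false

/-!
# From a typed biset to the conclusion of the abstract model theorem
-/

namespace Cfsg.Agent.LeadModel

open scoped IsMulCommutative

universe u

variable {S : Type u} [Group S]

/-- a homomorphism on `A ≥ Q` extending `γ` conjugates `c_a` to `γ c_a γ⁻¹`. -/
theorem cj_ext' {Q : Subgroup S} [Q.Normal] {γ : MulAut Q} {A : Subgroup S} (hQA : Q ≤ A) (ψ : A →* S)
    (hψQ : ∀ x : Q, ψ ⟨x, hQA x.2⟩ = γ x) (a : A) :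
    cj Q (ψ a) = γ * cj Q (a : S) * γ⁻¹ := by
  ext x
  simp only [MulAut.mul_apply, cj_apply]
  set y : Q := γ⁻¹ x with hy
  have hx : x = γ y := by simp [hy]
  have h2 : ψ ⟨((cj Q (a : S) y : Q) : S), hQA (cj Q (a : S) y).2⟩ = γ (cj Q (a : S) y) := hψQ _
  have h3 : (⟨((cj Q (a : S) y : Q) : S), hQA (cj Q (a : S) y).2⟩ : A) = a * ⟨y, hQA y.2⟩ * a⁻¹ := by
    apply Subtype.ext
    simp [cj_apply]
  rw [← h2, h3, map_mul, map_mul, map_inv, hψQ y, ← hx]

namespace TBiset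

variable {Q : Subgroup S} [Q.Normal] {Γ : Subgroup (MulAut Q)} (B : TBiset Q Γ)
variable {p : ℕ} {H : (A : Subgroup S) → Set (A →* S)} (h : Hyp p Q Γ H)
variable (hB : ∀ b, B.stabHom b ∈ H (B.stab b))

include hB in
theorem exists_alpha {γ : MulAut Q} (hγ : γ ∈ Γ) (φ : Ngam Q γ →* S) (hφ : φ ∈ H (Ngam Q γ))
    (hφQ : ∀ (x : Q) (hx : (x : S) ∈ Ngam Q γ), φ ⟨x, hx⟩ = γ x) :
    ∃ a : B.G h.cent, B.typG h.cent a = γ ∧
      ∀ n : Ngam Q γ, a * B.iotaG h.cent h.conj_le (n : S) * a⁻¹ = B.iotaG h.cent h.conj_le (φ n) := by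
  have hex := B.exists_target h hB hγ φ hφ hφQ
  let tgt : B.X → B.X := fun b₀ => Classical.choose (hex b₀)
  have hθ : ∀ b₀, B.θ (tgt b₀) = γ * B.θ b₀ := fun b₀ => (Classical.choose_spec (hex b₀)).1
  have htgt : ∀ (b₀ : B.X) (s : Ngam Q γ) (t : S), B.l (s : S) b₀ = B.r b₀ t →
      B.l (φ s) (tgt b₀) = B.r (tgt b₀) t := fun b₀ => (Classical.choose_spec (hex b₀)).2
  let α : B.E := ⟨B.alphaPerm φ tgt htgt hφQ hθ, B.alphaPerm_mem_E φ tgt htgt hφQ hθ hγ⟩
  refine ⟨QuotientGroup.mk α, B.typFun_alphaPerm φ tgt htgt hφQ hθ, fun n => ?_⟩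
  rw [iotaG_apply, iotaG_apply, mul_inv_eq_iff_eq_mul]
  show QuotientGroup.mk (α * B.iotaE h.conj_le (n : S)) = QuotientGroup.mk (B.iotaE h.conj_le (φ n) * α)
  congr 1
  apply Subtype.ext
  apply Equiv.ext
  intro b
  simp only [Subgroup.coe_mul, iotaE_coe, Equiv.Perm.mul_apply, iota_apply]
  exact B.alphaFun_l φ tgt htgt b n

variable [Finite S] [hp : Fact p.Prime] (hS : IsPGroup p S)

include h in
theorem not_dvd_card_orb : ¬ p ∣ Nat.card B.Orb := by
  obtain ⟨m, hm, hcard⟩ := h.cop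
  have h1 := B.card_orb_mul h.conj_le
  rw [hcard, mul_comm] at h1
  have hpos : 0 < Nat.card (cj Q).range := Nat.card_pos
  have h2 : Nat.card B.Orb = m := Nat.eq_of_mul_eq_mul_right hpos h1
  rw [h2]
  exact hm

include h hB hS in
theorem concl : Concl p Q Γ H := by
  have hn := B.not_dvd_card_orb h
  have hinj : Function.Injective (B.iotaG h.cent h.conj_le) := B.iotaG_injective h.cent h.conj_le p hS hn
  -- elements of trivial type
  have hker : ∀ g : B.G h.cent, B.typG h.cent g = 1 → ∃ z : Subgroup.center Q, g = (B.iotaG h.cent h.conj_le) ((z : Q) : S) :=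
    fun g hg => B.exists_center_of_typG_eq_one h.cent h.conj_le p hS hn g hg
  have hconjQ : ∀ (g : B.G h.cent) (x : Q), g * (B.iotaG h.cent h.conj_le) (x : S) * g⁻¹ = (B.iotaG h.cent h.conj_le) ((B.typG h.cent g x : Q) : S) :=
    fun g x => B.conj_iotaG_Q h.cent h.conj_le g x
  -- the chosen extensions
  have hext : ∀ γ : Γ, ∃ φ : Ngam Q γ.1 →* S, φ ∈ H (Ngam Q γ.1) ∧
      ∀ (x : Q) (hx : (x : S) ∈ Ngam Q γ.1), φ ⟨x, hx⟩ = γ.1 x := fun γ => h.H_ext γ.1 γ.2
  refine ⟨B.G h.cent, inferInstance, inferInstance, (B.iotaG h.cent h.conj_le), hinj, ?_, ?_, ?_, ?_, ?_⟩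
  · -- index
    intro hdvd
    obtain ⟨m, hm, hcard⟩ := h.cop
    have hkerEq : (B.typG h.cent).ker = (cj Q).ker.map (B.iotaG h.cent h.conj_le) := by
      ext g
      constructor
      · intro hg
        obtain ⟨z, hz⟩ := hker g hg
        exact ⟨_, cj_center z, hz.symm⟩
      · rintro ⟨s, hs, rfl⟩
        rw [MonoidHom.mem_ker, B.typG_iotaG]
        exact hs
    have e1 : Nat.card (B.typG h.cent).ker = Nat.card (cj Q).ker := by
      rw [hkerEq]
      exact Subgroup.card_map_of_injective hinj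
    have e2 : Nat.card (B.typG h.cent).ker * Nat.card (B.typG h.cent).range = Nat.card (B.G h.cent) := by
      rw [← Subgroup.index_ker]
      exact Subgroup.card_mul_index _
    have e3 : Nat.card (cj Q).ker * Nat.card (cj Q).range = Nat.card S := by
      rw [← Subgroup.index_ker]
      exact Subgroup.card_mul_index _
    have e4 : Nat.card (B.iotaG h.cent h.conj_le).range = Nat.card S :=
      (Nat.card_congr (MonoidHom.ofInjective hinj).toEquiv).symm
    have e5 := Subgroup.index_mul_card (B.iotaG h.cent h.conj_le).range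
    have e6 : Nat.card (B.typG h.cent).range ∣ Nat.card Γ := by
      apply Subgroup.card_dvd_of_le
      rintro _ ⟨g, rfl⟩
      exact B.typG_mem h.cent g
    have hZpos : 0 < Nat.card (cj Q).ker := Nat.card_pos
    have hPpos : 0 < Nat.card (cj Q).range := Nat.card_pos
    have e7 : (B.iotaG h.cent h.conj_le).range.index * Nat.card (cj Q).range
        = Nat.card (B.typG h.cent).range := by
      apply Nat.eq_of_mul_eq_mul_left hZpos
      rw [e1] at e2
      rw [e2, ← e5, e4, ← e3]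
      ring
    rw [← e7, hcard] at e6
    have e8 : (B.iotaG h.cent h.conj_le).range.index ∣ m := Nat.dvd_of_mul_dvd_mul_right hPpos e6
    exact hm (dvd_trans hdvd e8)
  · -- normal
    constructor
    rintro _ ⟨x, hx, rfl⟩ g
    exact ⟨_, (B.typG h.cent g ⟨x, hx⟩).2, (hconjQ g ⟨x, hx⟩).symm⟩
  · -- centralizer
    intro g hg
    rw [Subgroup.mem_centralizer_iff] at hg
    have h1 : B.typG h.cent g = 1 := by
      ext x
      have h2 := hg ((B.iotaG h.cent h.conj_le) (x : S)) ⟨x, x.2, rfl⟩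
      have h3 : g * (B.iotaG h.cent h.conj_le) (x : S) * g⁻¹ = (B.iotaG h.cent h.conj_le) (x : S) := by
        rw [← h2]; group
      rw [hconjQ] at h3
      exact hinj h3
    obtain ⟨z, hz⟩ := hker g h1
    exact ⟨_, (z : Q).2, hz.symm⟩
  · -- conjugation maps are admissible
    intro g A φ' hφ'
    have hγ : B.typG h.cent g ∈ Γ := B.typG_mem h.cent g
    obtain ⟨φ, hφ, hφQ⟩ := hext ⟨_, hγ⟩
    obtain ⟨a, ha, hcon⟩ := B.exists_alpha h hB hγ φ hφ hφQ
    have hA : A ≤ Ngam Q (B.typG h.cent g) := by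
      intro s hs
      rw [mem_Ngam]
      refine ⟨φ' ⟨s, hs⟩, ?_⟩
      have h1 := congrArg (B.typG h.cent) (hφ' ⟨s, hs⟩)
      rw [map_mul, map_mul, map_inv, B.typG_iotaG, B.typG_iotaG] at h1
      exact h1.symm
    obtain ⟨z, hz⟩ := hker (g * a⁻¹) (by rw [map_mul, map_inv, ha]; simp)
    have hval : ∀ s : A, φ' s = ((z : Q) : S) * φ ⟨s, hA s.2⟩ * ((z : Q) : S)⁻¹ := by
      intro s
      apply hinj
      rw [hφ' s, map_mul, map_mul, map_inv, ← hcon ⟨s, hA s.2⟩, ← hz]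
      group
    have h1 : φ.comp (Subgroup.inclusion hA) ∈ H A := h.H_restrict hA φ hφ
    have h2 := h.H_comp (φ.comp (Subgroup.inclusion hA))
      ((MulAut.conj ((z : Q) : S)).toMonoidHom.comp (⊤ : Subgroup S).subtype) h1
      (h.H_conj ⊤ _) (fun _ => Subgroup.mem_top _)
    have h3 : φ' = ((MulAut.conj ((z : Q) : S)).toMonoidHom.comp (⊤ : Subgroup S).subtype).comp
        ((φ.comp (Subgroup.inclusion hA)).codRestrict ⊤ (fun _ => Subgroup.mem_top _)) := by
      ext s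
      rw [hval s]
      simp
      rfl
    rw [h3]
    exact h2
  · -- admissible maps are conjugations
    rintro A hQA ψ hψ ⟨γ, hγ, hψQ⟩
    obtain ⟨φ, hφ, hφQ⟩ := hext ⟨γ, hγ⟩
    obtain ⟨a, ha, hcon⟩ := B.exists_alpha h hB hγ φ hφ hφQ
    have hA : A ≤ Ngam Q γ := by
      intro s hs
      rw [mem_Ngam]
      exact ⟨ψ ⟨s, hs⟩, (cj_ext' hQA ψ hψQ ⟨s, hs⟩).symm⟩
    have h1 : φ.comp (Subgroup.inclusion hA) ∈ H A := h.H_restrict hA φ hφ
    obtain ⟨z, _, hz⟩ := h.H_unique A hQA _ ψ h1 hψ (by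
      intro x
      rw [hψQ x]
      exact hφQ x (hA (hQA x.2)))
    refine ⟨(B.iotaG h.cent h.conj_le) (φ ⟨z, hA (hQA z.2)⟩) * a, fun s => ?_⟩
    rw [hz s]
    simp only [MonoidHom.comp_apply, map_mul, map_inv]
    have := hcon ⟨s, hA s.2⟩
    have hs : φ (Subgroup.inclusion hA s) = φ ⟨s, hA s.2⟩ := rfl
    have hzz : φ (Subgroup.inclusion hA ⟨z, hQA z.2⟩) = φ ⟨z, hA (hQA z.2)⟩ := rfl
    rw [hs, hzz, ← this]
    group

end TBiset

end Cfsg.Agent.LeadModel
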