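import Mathlib
import Cfsg.Agent.Lib.Lead.Model.Final

set_option autoImplicit false

/-!
# Construction of the typed biset
-/

namespace Cfsg.Agent.LeadModel

universe u

variable {S : Type u} [Group S]
variable {Q : Subgroup S} [Q.Normal] {Γ : Subgroup (MulAut Q)}
variable {p : ℕ} {H : (A : Subgroup S) → Set (A →* S)} (h : Hyp p Q Γ H)

namespace Constr

/-- the double coset relation on `Γ`. -/
def dcSetoid (Q : Subgroup S) [Q.Normal] (Γ : Subgroup (MulAut Q)) : Setoid Γ where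
  r γ γ' := ∃ a b : S, (γ' : MulAut Q) = cj Q a * γ * cj Q b
  iseqv := ⟨fun γ => ⟨1, 1, by simp⟩,
    fun {γ γ'} ⟨a, b, hh⟩ => ⟨a⁻¹, b⁻¹, by rw [hh, map_inv, map_inv]; group⟩,
    fun {γ γ' γ''} ⟨a, b, hh⟩ ⟨a', b', hh'⟩ => ⟨a' * a, b * b', by
      rw [hh', hh, map_mul, map_mul]; group⟩⟩

/-- the set of double cosets. -/
abbrev DC (Q : Subgroup S) [Q.Normal] (Γ : Subgroup (MulAut Q)) := Quotient (dcSetoid Q Γ)

/-- double coset representative. -/
noncomputable def gD (D : DC Q Γ) : MulAut Q := ((Quotient.out D : Γ) : MulAut Q)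

theorem gD_mem (D : DC Q Γ) : gD D ∈ Γ := (Quotient.out D : Γ).2

theorem gD_rel (γ : Γ) : ∃ a b : S, (γ : MulAut Q) = cj Q a * gD (Quotient.mk (dcSetoid Q Γ) γ) * cj Q b :=
  Quotient.exact (Quotient.out_eq (Quotient.mk (dcSetoid Q Γ) γ))

theorem DC_eq_of_rel (D D' : DC Q Γ) (a b : S) (hh : gD D' = cj Q a * gD D * cj Q b) : D = D' := by
  rw [← Quotient.out_eq D, ← Quotient.out_eq D']
  exact Quotient.sound ⟨a, b, hh⟩

/-- the domain `N_D = N_{g_D⁻¹}`. -/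
noncomputable def ND (D : DC Q Γ) : Subgroup S := Ngam Q (gD D)⁻¹

include h in
theorem exists_phiD (D : DC Q Γ) : ∃ φ : ND D →* S, φ ∈ H (ND D) ∧
    ∀ (x : Q) (hx : (x : S) ∈ ND D), φ ⟨x, hx⟩ = (gD D)⁻¹ x :=
  h.H_ext _ (Γ.inv_mem (gD_mem D))

/-- the chosen extension of `g_D⁻¹` to `N_D`. -/
noncomputable def phiD (D : DC Q Γ) : ND D →* S := Classical.choose (exists_phiD h D)

theorem phiD_mem (D : DC Q Γ) : phiD h D ∈ H (ND D) := (Classical.choose_spec (exists_phiD h D)).1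

theorem phiD_Q (D : DC Q Γ) (x : Q) (hx : (x : S) ∈ ND D) : phiD h D ⟨x, hx⟩ = (gD D)⁻¹ x :=
  (Classical.choose_spec (exists_phiD h D)).2 x hx

theorem cj_phiD (D : DC Q Γ) (n : ND D) : cj Q (phiD h D n) = (gD D)⁻¹ * cj Q (n : S) * gD D := by
  have := cj_ext (phiD h D) (phiD_Q h D) n
  rw [inv_inv] at this
  exact this

/-- the gluing relation. -/
def R (x y : DC Q Γ × S × S) : Prop :=
  x.1 = y.1 ∧ ∃ n : ND x.1, y.2.1 = x.2.1 * (n : S)⁻¹ ∧ y.2.2 = phiD h x.1 n * x.2.2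

theorem R_refl (x : DC Q Γ × S × S) : R h x x := ⟨rfl, 1, by simp, by simp⟩

theorem R_symm {x y : DC Q Γ × S × S} (hxy : R h x y) : R h y x := by
  obtain ⟨D, a, b⟩ := x
  obtain ⟨D', a', b'⟩ := y
  obtain ⟨hD, n, h1, h2⟩ := hxy
  simp only at hD h1 h2
  subst hD
  refine ⟨rfl, n⁻¹, ?_, ?_⟩
  · simp only [h1]; simp
  · simp only [h2, map_inv]; simp

theorem R_trans {x y z : DC Q Γ × S × S} (hxy : R h x y) (hyz : R h y z) : R h x z := by
  obtain ⟨D, a, b⟩ := x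
  obtain ⟨D', a', b'⟩ := y
  obtain ⟨D'', a'', b''⟩ := z
  obtain ⟨hD, n, h1, h2⟩ := hxy
  obtain ⟨hD', n', h1', h2'⟩ := hyz
  simp only at hD h1 h2 hD' h1' h2'
  subst hD
  subst hD'
  refine ⟨rfl, n' * n, ?_, ?_⟩
  · simp only [h1', h1]; simp [mul_assoc]
  · simp only [h2', h2, map_mul]; simp [mul_assoc]

/-- the gluing setoid. -/
def RSetoid : Setoid (DC Q Γ × S × S) := ⟨R h, ⟨R_refl h, R_symm h, R_trans h⟩⟩

/-- the underlying set of the biset. -/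
abbrev XX := Quotient (RSetoid h)

/-- class of a triple. -/
def mk (D : DC Q Γ) (a b : S) : XX h := Quotient.mk (RSetoid h) (D, a, b)

theorem mk_eq_iff (D D' : DC Q Γ) (a b a' b' : S) :
    mk h D a b = mk h D' a' b' ↔ R h (D, a, b) (D', a', b') :=
  ⟨fun hh => Quotient.exact hh, fun hh => Quotient.sound hh⟩

theorem mk_eq_of (D : DC Q Γ) (a b : S) (n : ND D) :
    mk h D a b = mk h D (a * (n : S)⁻¹) (phiD h D n * b) :=
  (mk_eq_iff h _ _ _ _ _ _).mpr ⟨rfl, n, rfl, rfl⟩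

theorem XX_ind {P : XX h → Prop} (hP : ∀ D a b, P (mk h D a b)) (x : XX h) : P x := by
  refine Quotient.inductionOn x ?_
  rintro ⟨D, a, b⟩
  exact hP D a b

/-- left action. -/
def lact (s : S) : XX h → XX h :=
  Quotient.map (sa := RSetoid h) (sb := RSetoid h) (fun x => (x.1, s * x.2.1, x.2.2)) (by
    rintro ⟨D, a, b⟩ ⟨D', a', b'⟩ ⟨hD, n, h1, h2⟩
    exact ⟨hD, n, by simp only at h1 ⊢; rw [h1, mul_assoc], h2⟩)

/-- right action. -/
def ract (x : XX h) (t : S) : XX h :=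
  Quotient.map (sa := RSetoid h) (sb := RSetoid h) (fun x => (x.1, x.2.1, x.2.2 * t)) (by
    rintro ⟨D, a, b⟩ ⟨D', a', b'⟩ ⟨hD, n, h1, h2⟩
    exact ⟨hD, n, h1, by simp only at h2 ⊢; rw [h2, mul_assoc]⟩) x

@[simp] theorem lact_mk (s : S) (D : DC Q Γ) (a b : S) : lact h s (mk h D a b) = mk h D (s * a) b := rfl

@[simp] theorem ract_mk (t : S) (D : DC Q Γ) (a b : S) : ract h (mk h D a b) t = mk h D a (b * t) := rfl

/-- the type map. -/
noncomputable def theta : XX h → MulAut Q :=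
  Quotient.lift (s := RSetoid h) (fun x => cj Q x.2.1 * gD x.1 * cj Q x.2.2) (by
    rintro ⟨D, a, b⟩ ⟨D', a', b'⟩ ⟨hD, n, h1, h2⟩
    simp only at hD h1 h2 ⊢
    subst hD
    rw [h1, h2, map_mul, map_mul, cj_phiD, map_inv]
    group)

@[simp] theorem theta_mk (D : DC Q Γ) (a b : S) : theta h (mk h D a b) = cj Q a * gD D * cj Q b := rfl

end Constr

end Cfsg.Agent.LeadModel
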