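import Mathlib
import Cfsg.Agent.Lib.Lead.Model.Constr

set_option autoImplicit false

/-!
# Construction of the typed biset: the axioms
-/

namespace Cfsg.Agent.LeadModel

universe u

variable {S : Type u} [Group S]
variable {Q : Subgroup S} [Q.Normal] {Γ : Subgroup (MulAut Q)}
variable {p : ℕ} {H : (A : Subgroup S) → Set (A →* S)} (h : Hyp p Q Γ H)

namespace Constr

theorem free_aux (D : DC Q Γ) (a b s : S) (hh : ract h (mk h D a b) s = mk h D a b) : s = 1 := by
  rw [ract_mk, mk_eq_iff] at hh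
  obtain ⟨_, n, h1, h2⟩ := hh
  simp only at h1 h2
  have hn : (n : S) = 1 := by
    have : a * 1 = a * (n : S)⁻¹ := by rw [mul_one]; exact h1
    have h3 := mul_left_cancel this
    exact inv_eq_one.mp h3.symm
  have hn' : n = 1 := Subtype.ext hn
  rw [hn', map_one, one_mul] at h2
  have : b * 1 = b * s := by rw [mul_one]; exact h2
  exact (mul_left_cancel this).symm

theorem trans_aux (D D' : DC Q Γ) (a b a' b' s : S)
    (hh : theta h (mk h D' a' b') = theta h (mk h D a b) * cj Q s) :
    ∃ t, mk h D' a' b' = ract h (mk h D a b) t := by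
  rw [theta_mk, theta_mk] at hh
  have hD : D = D' := by
    apply DC_eq_of_rel D D' (a'⁻¹ * a) (b * s * b'⁻¹)
    rw [map_mul, map_mul, map_mul, map_inv, map_inv]
    calc gD D' = (cj Q a')⁻¹ * (cj Q a' * gD D' * cj Q b') * (cj Q b')⁻¹ := by group
      _ = _ := by rw [hh]; group
  subst hD
  have hu : a'⁻¹ * a ∈ ND D := by
    unfold ND
    rw [mem_Ngam]
    refine ⟨b' * (b * s)⁻¹, ?_⟩
    rw [inv_inv, map_mul, map_mul, map_inv, map_inv, map_mul]
    calc (gD D)⁻¹ * ((cj Q a')⁻¹ * cj Q a) * gD D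
        = (gD D)⁻¹ * (cj Q a')⁻¹ * (cj Q a * gD D * cj Q b * cj Q s) * (cj Q b * cj Q s)⁻¹ := by group
      _ = _ := by rw [← hh]; group
  refine ⟨b⁻¹ * (phiD h D ⟨_, hu⟩)⁻¹ * b', ?_⟩
  rw [ract_mk, mk_eq_of h D a _ ⟨_, hu⟩]
  congr 1
  · simp
  · simp [mul_assoc]

theorem qact_aux (D : DC Q Γ) (a b : S) (x : Q) :
    lact h (x : S) (mk h D a b) = ract h (mk h D a b) (((theta h (mk h D a b))⁻¹ x : Q) : S) := by
  rw [lact_mk, ract_mk, theta_mk]
  have hnQ : a⁻¹ * (x : S)⁻¹ * a ∈ Q := by
    have := (inferInstance : Q.Normal).conj_mem _ (Q.inv_mem x.2) a⁻¹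
    simpa using this
  have hn : a⁻¹ * (x : S)⁻¹ * a ∈ ND D := Q_le_Ngam Q _ hnQ
  rw [mk_eq_of h D a _ ⟨_, hn⟩]
  congr 1
  · simp [mul_assoc]
  · rw [phiD_Q h D ⟨_, hnQ⟩ hn]
    have e1 : (cj Q a * gD D * cj Q b)⁻¹ = cj Q b⁻¹ * (gD D)⁻¹ * cj Q a⁻¹ := by
      rw [map_inv, map_inv]; group
    rw [e1]
    simp only [MulAut.mul_apply, cj_apply]
    have e2 : ((gD D)⁻¹ (cj Q a⁻¹ x) : Q) = ((gD D)⁻¹ ⟨a⁻¹ * (x : S)⁻¹ * a, hnQ⟩)⁻¹ := by
      rw [← map_inv]
      congr 1
      apply Subtype.ext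
      rw [cj_apply]
      simp [mul_assoc]
    rw [e2]
    simp [mul_assoc]

theorem l_one' (x : XX h) : lact h 1 x = x := by
  induction x using XX_ind h with | hP D a b => ?_
  simp

theorem l_mul' (s t : S) (x : XX h) : lact h (s * t) x = lact h s (lact h t x) := by
  induction x using XX_ind h with | hP D a b => ?_
  simp [mul_assoc]

theorem r_one' (x : XX h) : ract h x 1 = x := by
  induction x using XX_ind h with | hP D a b => ?_
  simp

theorem r_mul' (x : XX h) (s t : S) : ract h x (s * t) = ract h (ract h x s) t := by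
  induction x using XX_ind h with | hP D a b => ?_
  simp [mul_assoc]

theorem lr' (s : S) (x : XX h) (t : S) : ract h (lact h s x) t = lact h s (ract h x t) := by
  induction x using XX_ind h with | hP D a b => ?_
  rfl

theorem θ_l' (s : S) (x : XX h) : theta h (lact h s x) = cj Q s * theta h x := by
  induction x using XX_ind h with | hP D a b => ?_
  simp [map_mul, mul_assoc]

theorem θ_r' (x : XX h) (s : S) : theta h (ract h x s) = theta h x * cj Q s := by
  induction x using XX_ind h with | hP D a b => ?_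
  simp [map_mul, mul_assoc]

theorem free' (x : XX h) (s : S) : ract h x s = x → s = 1 := by
  induction x using XX_ind h with | hP D a b => ?_
  exact free_aux h D a b s

theorem trans' (x x' : XX h) (s : S) : theta h x' = theta h x * cj Q s → ∃ t, x' = ract h x t := by
  induction x using XX_ind h with | hP D a b => ?_
  induction x' using XX_ind h with | hP D' a' b' => ?_
  exact trans_aux h D D' a b a' b' s

theorem qact' (x : Q) (y : XX h) :
    lact h (x : S) y = ract h y (((theta h y)⁻¹ x : Q) : S) := by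
  induction y using XX_ind h with | hP D a b => ?_
  exact qact_aux h D a b x

theorem θ_mem' (x : XX h) : theta h x ∈ Γ := by
  induction x using XX_ind h with | hP D a b => ?_
  rw [theta_mk]
  exact Γ.mul_mem (Γ.mul_mem (h.conj_le ⟨a, rfl⟩) (gD_mem D)) (h.conj_le ⟨b, rfl⟩)

theorem θ_surj' (γ : MulAut Q) (hγ : γ ∈ Γ) : ∃ x : XX h, theta h x = γ := by
  obtain ⟨a, b, hab⟩ := gD_rel (⟨γ, hγ⟩ : Γ)
  exact ⟨mk h _ a b, hab.symm⟩

/-- the typed biset. -/
noncomputable def biset [Finite S] : TBiset Q Γ where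
  X := XX h
  fin := inferInstance
  l := lact h
  r := ract h
  θ := theta h
  l_one := l_one' h
  l_mul := l_mul' h
  r_one := r_one' h
  r_mul := r_mul' h
  lr := lr' h
  θ_l := θ_l' h
  θ_r := θ_r' h
  free := free' h
  trans := trans' h
  qact := qact' h
  θ_mem := θ_mem' h
  θ_surj := θ_surj' h

end Constr

end Cfsg.Agent.LeadModel
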