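import Mathlib
import Cfsg.Agent.Lib.Lead.Model.Constr2

set_option autoImplicit false

/-!
# The abstract model theorem
-/

namespace Cfsg.Agent.LeadModel

universe u

variable {S : Type u} [Group S] [Finite S]
variable {Q : Subgroup S} [Q.Normal] {Γ : Subgroup (MulAut Q)}
variable {p : ℕ} {H : (A : Subgroup S) → Set (A →* S)} (h : Hyp p Q Γ H)

namespace Constr

theorem stab_aux (D : DC Q Γ) (a c s : S) (hs : s ∈ (biset h).stab (mk h D a c)) :
    a⁻¹ * s * a ∈ ND D := by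
  obtain ⟨t, ht⟩ := hs
  change mk h D (s * a) c = mk h D a (c * t) at ht
  rw [mk_eq_iff] at ht
  obtain ⟨_, n, h1, _⟩ := ht
  simp only at h1
  have : a⁻¹ * s * a = (n : S) := by
    have h2 : a * (n : S) = s * a := by
      conv_lhs => rw [h1]
      group
    rw [mul_assoc, ← h2]
    group
  rw [this]
  exact n.2

theorem stab_spec (D : DC Q Γ) (a c s : S) (hu : a⁻¹ * s * a ∈ ND D) :
    (biset h).l s (mk h D a c) = (biset h).r (mk h D a c) (c⁻¹ * phiD h D ⟨_, hu⟩ * c) := by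
  change mk h D (s * a) c = mk h D a (c * (c⁻¹ * phiD h D ⟨_, hu⟩ * c))
  rw [mk_eq_of h D (s * a) c ⟨_, hu⟩]
  congr 1
  · simp only [mul_inv_rev, inv_inv]
    group
  · group

theorem stabHom_mem (b : (biset h).X) : (biset h).stabHom b ∈ H ((biset h).stab b) := by
  induction b using XX_ind h with | hP D a c => ?_
  set A := (biset h).stab (mk h D a c) with hA
  let ψ₁ : A →* S := (MulAut.conj a⁻¹).toMonoidHom.comp A.subtype
  have hψ₁ : ψ₁ ∈ H A := h.H_conj A a⁻¹
  have hmap₁ : ∀ s : A, ψ₁ s ∈ ND D := by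
    intro s
    have := stab_aux h D a c s s.2
    simpa [ψ₁] using this
  let ψ₂ : A →* S := (phiD h D).comp (ψ₁.codRestrict (ND D) hmap₁)
  have hψ₂ : ψ₂ ∈ H A := h.H_comp ψ₁ (phiD h D) hψ₁ (phiD_mem h D) hmap₁
  let ψ₃ : A →* S := ((MulAut.conj c⁻¹).toMonoidHom.comp (⊤ : Subgroup S).subtype).comp
    (ψ₂.codRestrict ⊤ (fun _ => Subgroup.mem_top _))
  have hψ₃ : ψ₃ ∈ H A := h.H_comp ψ₂ _ hψ₂ (h.H_conj ⊤ c⁻¹) (fun _ => Subgroup.mem_top _)
  have heq : (biset h).stabHom (mk h D a c) = ψ₃ := by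
    ext s
    apply (biset h).stabHom_unique
    have hu := stab_aux h D a c s s.2
    rw [stab_spec h D a c s hu]
    congr 1
    simp only [ψ₃, ψ₂, ψ₁, MonoidHom.comp_apply, MulEquiv.coe_toMonoidHom, MulAut.conj_apply,
      Subgroup.coe_subtype, MonoidHom.codRestrict_apply, inv_inv]
  rw [heq]
  exact hψ₃

end Constr

/-- **The abstract model theorem.** -/
theorem exists_model [hp : Fact p.Prime] (hS : IsPGroup p S) (h : Hyp p Q Γ H) : Concl p Q Γ H :=
  (Constr.biset h).concl h (Constr.stabHom_mem h) hS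

end Cfsg.Agent.LeadModel
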